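import Groth.Agent.Lib.FinCov.FrameFree
import Mathlib.AlgebraicGeometry.Morphisms.Finite
import Mathlib.Algebra.Category.Ring.Constructions
import Mathlib.LinearAlgebra.TensorProduct.Basis

/-!
# Finite morphisms with free direct image of the structure sheaf
-/

set_option autoImplicit false
set_option linter.all false
set_option maxHeartbeats 1000000
set_option backward.isDefEq.respectTransparency false

universe u

open CategoryTheory CategoryTheory.Limits AlgebraicGeometry TopologicalSpace Opposite TensorProduct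
open GrothLib.FinCov (IsFrame)

noncomputable section

namespace GrothLib.FreePush6

variable {X : Scheme.{u}}

/-- The standard sections of a free module. -/
def freeSec (X : Scheme.{u}) (n : ℕ) (i : Fin n) : Γ(FlatMod.freeMod X n, ⊤) :=
  (Sigma.ι (fun _ : Fin n => Coh.structureModule X) i).app ⊤ (FinCov.one X ⊤)

theorem isFrame_freeSec (X : Scheme.{u}) (n : ℕ) :
    IsFrame (FlatMod.freeMod X n) ⊤ (freeSec X n) := by
  classical
  intro W hW
  let ιm : ∀ _ : Fin n, Coh.structureModule X ⟶ FlatMod.freeMod X n := fun i =>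
    Sigma.ι (fun _ : Fin n => Coh.structureModule X) i
  let C : Γ(FlatMod.freeMod X n, W) → (Fin n → Γ(X, W)) := fun x i => (FinCov.proj X n i).app W x
  have hC : Function.Bijective fun c : Fin n → Γ(X, W) => ∑ i, (ιm i).app W (c i) := by
    refine Function.bijective_iff_has_inverse.2 ⟨C, fun c => funext fun j => ?_, fun x => ?_⟩
    · show (FinCov.proj X n j).app W (∑ i, (ιm i).app W (c i)) = c j
      rw [map_sum, Finset.sum_eq_single j]
      · show (ιm j ≫ FinCov.proj X n j).app W (c j) = c j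
        rw [FinCov.ι_proj, if_pos rfl]; rfl
      · intro i _ hi
        show (ιm i ≫ FinCov.proj X n j).app W (c i) = 0
        rw [FinCov.ι_proj, if_neg hi]; rfl
      · simp
    · show ∑ i, (FinCov.proj X n i ≫ ιm i).app W x = x
      rw [← FinCov.sum_app, FinCov.sum_proj_ι]; rfl
  refine Eq.mpr (congrArg Function.Bijective (funext fun c => ?_)) hC
  refine Finset.sum_congr rfl fun i _ => ?_
  have h1 : (ιm i).app W (FinCov.one X W) =
      (FlatMod.freeMod X n).presheaf.map (homOfLE hW).op (freeSec X n i) := by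
    have := congr($((ιm i).mapPresheaf.naturality (homOfLE hW).op) (FinCov.one X ⊤))
    refine Eq.trans ?_ this
    show (ιm i).app W (FinCov.one X W) = (ιm i).app W ((Coh.structureModule X).presheaf.map (homOfLE hW).op (FinCov.one X ⊤))
    congr 1
    exact (map_one (X.presheaf.map (homOfLE hW).op).hom).symm
  rw [← h1, ← Scheme.Modules.Hom.app_smul, FinCov.smul_one]


theorem isFrame_map {M N : X.Modules} (φ : M ⟶ N) [IsIso φ] {U : X.Opens} {n : ℕ} {e : Fin n → Γ(M, U)}
    (he : IsFrame M U e) : IsFrame N U fun i => φ.app U (e i) := by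
  intro V h
  have h2 : Function.Bijective (φ.app V) :=
    (ConcreteCategory.isIso_iff_bijective _).1 (Scheme.Modules.Hom.isIso_iff_isIso_app.1 inferInstance V)
  have heq : (fun c : Fin n → Γ(X, V) => ∑ i, c i • N.presheaf.map (homOfLE h).op (φ.app U (e i))) =
      φ.app V ∘ fun c : Fin n → Γ(X, V) => ∑ i, c i • M.presheaf.map (homOfLE h).op (e i) := by
    funext c
    simp only [Function.comp, map_sum, Scheme.Modules.Hom.app_smul]
    refine Finset.sum_congr rfl fun i _ => ?_
    congr 1
    exact (congr($(φ.mapPresheaf.naturality (homOfLE h).op) (e i))).symm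
  rw [heq]
  exact h2.comp (he V h)

/-- A free direct image has global functions spanning freely over every open. -/
theorem exists_sections {F P : Scheme.{u}} (f : F ⟶ P) (d : ℕ)
    (e : (Scheme.Modules.pushforward f).obj (Coh.structureModule F) ≅ FlatMod.freeMod P d) :
    ∃ b : Fin d → Γ(F, ⊤), ∀ U : P.Opens, Function.Bijective fun c : Fin d → Γ(P, U) =>
      ∑ i, (f.app U).hom (c i) * F.presheaf.map (homOfLE (le_top : f ⁻¹ᵁ U ≤ ⊤)).op (b i) := by
  have h := isFrame_map e.inv (isFrame_freeSec P d)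
  exact ⟨fun i => e.inv.app ⊤ (freeSec P d i), fun U => h U le_top⟩

variable {F P : Scheme.{u}} {k : CommRingCat.{u}} (f : F ⟶ P) [IsAffineHom f] (p : P ⟶ Spec k)
  {d : ℕ} (b : Fin d → Γ(F, ⊤))

/-- The ring of constants mapped to the global functions. -/
abbrev constHom : k ⟶ Γ(P, ⊤) := (Scheme.ΓSpecIso k).inv ≫ p.appTop

theorem toSpecΓ_constHom : P.toSpecΓ ≫ Spec.map (constHom p) = p := by
  rw [Spec.map_comp, ← Scheme.toSpecΓ_naturality_assoc, ← SpecMap_ΓSpecIso_hom, ← Spec.map_comp,
    Iso.inv_hom_id, Spec.map_id, Category.comp_id]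

theorem isPullback_affine (hk : IsIso p.appTop)
    (hb : ∀ U : P.Opens, Function.Bijective fun c : Fin d → Γ(P, U) =>
      ∑ i, (f.app U).hom (c i) * F.presheaf.map (homOfLE (le_top : f ⁻¹ᵁ U ≤ ⊤)).op (b i))
    {U : P.Opens} (hU : IsAffineOpen U) :
    IsPullback ((f ⁻¹ᵁ U).ι ≫ F.toSpecΓ) (f ∣_ U) (Spec.map (constHom p ≫ f.appTop)) (U.ι ≫ p) := by
  set V := f ⁻¹ᵁ U
  have hV : IsAffineOpen V := hU.preimage f
  let cU : k ⟶ Γ(P, U) := constHom p ≫ P.presheaf.map (homOfLE le_top).op
  let res : Γ(F, ⊤) ⟶ Γ(F, V) := F.presheaf.map (homOfLE le_top).op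
  have hcomm : (constHom p ≫ f.appTop) ≫ res = cU ≫ f.app U := by
    simp only [cU, res, Category.assoc]
    rw [Scheme.Hom.naturality]
    rfl
  have hpush : IsPushout (constHom p ≫ f.appTop) cU res (f.app U) := by
    letI : Algebra k Γ(F, ⊤) := (constHom p ≫ f.appTop).hom.toAlgebra
    letI : Algebra k Γ(P, U) := cU.hom.toAlgebra
    letI : Algebra Γ(F, ⊤) Γ(F, V) := res.hom.toAlgebra
    letI : Algebra Γ(P, U) Γ(F, V) := (f.app U).hom.toAlgebra
    letI : Algebra k Γ(F, V) := (cU ≫ f.app U).hom.toAlgebra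
    haveI : IsScalarTower k Γ(P, U) Γ(F, V) := IsScalarTower.of_algebraMap_eq fun _ => rfl
    haveI : IsScalarTower k Γ(F, ⊤) Γ(F, V) := IsScalarTower.of_algebraMap_eq fun a =>
      (congrArg (fun g => g.hom a) hcomm).symm
    haveI : IsIso (constHom p) := inferInstance
    have hA : Function.Bijective fun c : Fin d → k => ∑ i, c i • b i := by
      have h1 : Function.Bijective fun c : Fin d → k => fun i => (constHom p).hom (c i) :=
        (ConcreteCategory.bijective_of_isIso (constHom p)).comp_left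
      have h2 := (hb ⊤).comp h1
      refine Eq.mpr (congrArg Function.Bijective (funext fun c => ?_)) h2
      show _ = ∑ i, (f.app ⊤).hom ((constHom p).hom (c i)) *
        F.presheaf.map (homOfLE (le_top : f ⁻¹ᵁ (⊤ : P.Opens) ≤ ⊤)).op (b i)
      refine Finset.sum_congr rfl fun i _ => ?_
      have : F.presheaf.map (homOfLE (le_top : f ⁻¹ᵁ (⊤ : P.Opens) ≤ ⊤)).op (b i) = b i := by
        rw [show (homOfLE (le_top : f ⁻¹ᵁ (⊤ : P.Opens) ≤ ⊤)).op = 𝟙 (op (⊤ : F.Opens)) from rfl,
          CategoryTheory.Functor.map_id]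
        rfl
      rw [this, Algebra.smul_def]
      rfl
    let bA : Module.Basis (Fin d) k Γ(F, ⊤) :=
      .ofEquivFun (LinearEquiv.ofBijective (Fintype.linearCombination k b)
        (by convert hA using 1 with c; ext c; exact Fintype.linearCombination_apply k b c)).symm
    have hbA : ∀ i, bA i = b i := fun i => by
      simp [bA, Fintype.linearCombination_apply, Pi.single_apply]
    let bV : Module.Basis (Fin d) Γ(P, U) Γ(F, V) :=
      .ofEquivFun (LinearEquiv.ofBijective (Fintype.linearCombination Γ(P, U) fun i => res (b i))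
        (by
          convert hb U using 1
          ext c
          rw [Fintype.linearCombination_apply]
          exact Finset.sum_congr rfl fun i _ => Algebra.smul_def _ _)).symm
    have hbV : ∀ i, bV i = res (b i) := fun i => by
      simp [bV, Fintype.linearCombination_apply, Pi.single_apply]
    let e := (bA.baseChange Γ(P, U)).equiv bV (Equiv.refl _)
    have he : ∀ a, e ((1 : Γ(P, U)) ⊗ₜ[k] a) =
        (IsScalarTower.toAlgHom k Γ(F, ⊤) Γ(F, V)).toLinearMap a := by
      intro a
      have : (e.toLinearMap.restrictScalars k) ∘ₗ (TensorProduct.mk k Γ(P, U) Γ(F, ⊤) 1) =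
          (IsScalarTower.toAlgHom k Γ(F, ⊤) Γ(F, V)).toLinearMap := by
        refine bA.ext fun i => ?_
        show e ((1 : Γ(P, U)) ⊗ₜ[k] bA i) = _
        rw [← Module.Basis.baseChange_apply Γ(P, U) bA i, Module.Basis.equiv_apply, Equiv.refl_apply,
          hbV, hbA]
        rfl
      exact LinearMap.congr_fun this a
    haveI : Algebra.IsPushout k Γ(P, U) Γ(F, ⊤) Γ(F, V) :=
      ⟨IsBaseChange.of_equiv e he⟩
    exact (CommRingCat.isPushout_of_isPushout k Γ(P, U) Γ(F, ⊤) Γ(F, V)).flip
  refine (isPullback_SpecMap_of_isPushout _ _ _ _ hpush).of_iso hV.isoSpec.symm (Iso.refl _)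
    hU.isoSpec.symm (Iso.refl _) ?_ ?_ (by simp) ?_
  · rw [Iso.refl_hom, Category.comp_id, Iso.symm_hom, Iso.eq_inv_comp, IsAffineOpen.isoSpec_hom]
    exact (Scheme.Opens.toSpecΓ_SpecMap_presheaf_map_top V)
  · rw [Iso.symm_hom, Iso.symm_hom, ← cancel_mono U.ι, Category.assoc, Category.assoc,
      morphismRestrict_ι]
    simp [f.app_eq_appLE]
    rw [hU.SpecMap_appLE_fromSpec f hV, ← hV.isoSpec_inv_ι, Category.assoc]
  · rw [Iso.symm_hom, Iso.refl_hom, Category.comp_id, Iso.eq_inv_comp, IsAffineOpen.isoSpec_hom,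
      Spec.map_comp, ← Category.assoc, Scheme.Opens.toSpecΓ_SpecMap_presheaf_map_top,
      Category.assoc, toSpecΓ_constHom]

/-- A finite morphism with free direct image is a base change from the constants. -/
theorem isPullback_toSpecΓ (hk : IsIso p.appTop)
    (hb : ∀ U : P.Opens, Function.Bijective fun c : Fin d → Γ(P, U) =>
      ∑ i, (f.app U).hom (c i) * F.presheaf.map (homOfLE (le_top : f ⁻¹ᵁ U ≤ ⊤)).op (b i)) :
    IsPullback F.toSpecΓ f (Spec.map (constHom p ≫ f.appTop)) p := by
  have w : F.toSpecΓ ≫ Spec.map (constHom p ≫ f.appTop) = f ≫ p := by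
    rw [Spec.map_comp, ← Scheme.toSpecΓ_naturality_assoc, toSpecΓ_constHom]
  let Q := pullback (Spec.map (constHom p ≫ f.appTop)) p
  let m : F ⟶ Q := pullback.lift F.toSpecΓ f w
  suffices IsIso m from
    IsPullback.of_iso_pullback ⟨w⟩ (asIso m) (pullback.lift_fst ..) (pullback.lift_snd ..)
  show (MorphismProperty.isomorphisms Scheme.{u}) m
  let π : Q ⟶ P := pullback.snd _ _
  refine IsZariskiLocalAtTarget.of_iSup_eq_top (P := MorphismProperty.isomorphisms Scheme.{u})
    (fun U : P.affineOpens => π ⁻¹ᵁ U.1) ?_ fun U => ?_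
  · rw [← Scheme.Hom.preimage_iSup, iSup_affineOpens_eq_top]
    rfl
  · have hsq := isPullback_affine f p b hk hb U.2
    have hQ : IsPullback ((π ⁻¹ᵁ U.1).ι ≫ pullback.fst _ _) (π ∣_ U.1)
        (Spec.map (constHom p ≫ f.appTop)) (U.1.ι ≫ p) :=
      (isPullback_morphismRestrict π U.1).flip.paste_horiz (IsPullback.of_hasPullback _ _)
    have hpre : m ⁻¹ᵁ (π ⁻¹ᵁ U.1) = f ⁻¹ᵁ U.1 := by
      rw [← Scheme.Hom.comp_preimage, pullback.lift_snd]
    let φ := (F.isoOfEq hpre).trans (hsq.isoIsPullback _ _ hQ)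
    show IsIso (m ∣_ (π ⁻¹ᵁ U.1))
    suffices m ∣_ (π ⁻¹ᵁ U.1) = φ.hom from this ▸ inferInstance
    refine hQ.hom_ext ?_ ?_
    · simp [φ, m]
    · simp only [φ, Iso.trans_hom, Category.assoc, IsPullback.isoIsPullback_hom_snd]
      rw [← cancel_mono U.1.ι, Category.assoc, Category.assoc, morphismRestrict_ι]
      simp [m, π]

end GrothLib.FreePush6

namespace GrothLib.FreePush6

/-- A finite morphism with free direct image is constant, given a rational point of the base. -/
theorem nonempty_overIso {F P : Scheme.{u}} {k : CommRingCat.{u}} (f : F ⟶ P) [IsAffineHom f]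
    (p : P ⟶ Spec k) (hk : IsIso p.appTop) (s : Spec k ⟶ P) (hs : s ≫ p = 𝟙 _) {d : ℕ}
    (e : (Scheme.Modules.pushforward f).obj (Coh.structureModule F) ≅ FlatMod.freeMod P d) :
    Nonempty (Over.mk f ≅ Over.mk (pullback.snd (pullback.snd f s) p)) := by
  obtain ⟨b, hb⟩ := exists_sections f d e
  have h := isPullback_toSpecΓ f p b hk hb
  let c := Spec.map (constHom p ≫ f.appTop)
  have h2 : IsPullback (pullback.fst f s ≫ F.toSpecΓ) (pullback.snd f s) c (𝟙 (Spec k)) := by
    have := (IsPullback.of_hasPullback f s).paste_horiz h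
    rwa [hs] at this
  haveI : IsIso (pullback.fst f s ≫ F.toSpecΓ) := h2.isIso_fst_of_isIso
  let φ := asIso (pullback.fst f s ≫ F.toSpecΓ)
  have h3 : IsPullback (F.toSpecΓ ≫ φ.inv) f (pullback.snd f s) p := by
    refine h.of_iso (Iso.refl _) φ.symm (Iso.refl _) (Iso.refl _) ?_ (by simp) ?_ (by simp)
    · simp
    · rw [Iso.symm_hom, Iso.refl_hom, Category.comp_id, Iso.eq_inv_comp]
      exact h2.w.trans (Category.comp_id _)
  exact ⟨Over.isoMk h3.isoPullback (h3.isoPullback_hom_snd)⟩

end GrothLib.FreePush6
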